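import Mathlib
import Cfsg.Agent.SYL.A8Q
import Cfsg.Agent.SPOR.W2.A

/-! The Sylow 2-subgroup of `A₈` by generators and relations; its automorphisms. -/

set_option autoImplicit false
set_option linter.unusedSimpArgs false
set_option maxRecDepth 100000
set_option synthInstance.maxSize 4000
set_option synthInstance.maxHeartbeats 400000

namespace CL.GH.E8

open Subgroup SemidirectProduct CL.Syl CL.Syl.A8 CL.W2

attribute [local instance 2000] List.decidableBAll List.decidableBEx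

variable {G : Type*} [Group G]

/-- a power with exponent modulo 2 -/
def bz (g : G) (e : ZMod 2) : G := if e = 0 then 1 else g

theorem bz_add {g : G} (h : g * g = 1) (e e' : ZMod 2) : bz g (e + e') = bz g e * bz g e' := by
  have : ∀ e : ZMod 2, e = 0 ∨ e = 1 := by decide
  rcases this e with rfl | rfl <;> rcases this e' with rfl | rfl <;>
    simp [bz, h, show (1 + 1 : ZMod 2) = 0 from rfl]

theorem bz_cm {g h : G} (c : Commute g h) (e e' : ZMod 2) : Commute (bz g e) (bz h e') := by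
  unfold bz
  split_ifs <;> simp [c]

theorem map_bz {H : Type*} [Group H] (f : G →* H) (g : G) (e : ZMod 2) : f (bz g e) = bz (f g) e := by
  unfold bz
  split_ifs <;> simp

/-- the relations -/
abbrev Rel (u v w : G) : Prop := u * u = 1 ∧ v * v = 1 ∧ w * w = 1 ∧ v * w = w * v ∧
  u * (v * u * v) = v * u * v * u ∧ u * (w * u * w) = w * u * w * u ∧
  u * (v * (w * u * w) * v) = v * (w * u * w) * v * u

theorem exists_v4 {a b c d : G} (aa : a * a = 1) (bb : b * b = 1) (cc : c * c = 1) (dd : d * d = 1)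
    (ab : Commute a b) (ac : Commute a c) (ad : Commute a d) (bc : Commute b c) (bd : Commute b d)
    (cd : Commute c d) : ∃ f : V4 →* G, f ea = a ∧ f eb = b ∧ f ec = c ∧ f ed = d :=
  ⟨MonoidHom.mk' (fun u => bz a u.a * bz b u.b * bz c u.c * bz d u.d) fun u v => by
    rw [(((bz_cm ad _ _).mul_left (bz_cm bd _ _)).mul_left (bz_cm cd _ _)).symm.mul_mul_mul_comm,
      ((bz_cm ac _ _).mul_left (bz_cm bc _ _)).symm.mul_mul_mul_comm,
      (bz_cm ab _ _).symm.mul_mul_mul_comm, ← bz_add aa, ← bz_add bb, ← bz_add cc, ← bz_add dd]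
    rfl, by simp [bz, ea], by simp [bz, eb], by simp [bz, ec], by simp [bz, ed]⟩

theorem ext4 {f g : V4 →* G} (h : ∀ u ∈ bs, f u = g u) : f = g := MonoidHom.ext fun u => by
  rw [← lin_bs u]
  simp only [A8.lin, frc_eq, map_mul, apply_ite f, apply_ite g, map_one, h ea (by simp [bs]),
    h eb (by simp [bs]), h ec (by simp [bs]), h ed (by simp [bs])]

theorem exists_lift0 {u v w : G} (h : Rel u v w) :
    ∃ f : W6 →* G, f (inl ec) = u ∧ f (inr ⟨1, 0⟩) = v ∧ f (inr ⟨0, 1⟩) = w := by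
  obtain ⟨uu, vv, ww, vw, c1, c2, c3⟩ := h
  have cj : ∀ {g a b : G}, g * g = 1 → g * (a * b) * g = g * a * g * (g * b * g) := fun {g a b} e => by
    rw [show g * a * g * (g * b * g) = g * a * (g * g) * b * g by group, e]; group
  have cc : ∀ {g a : G}, g * g = 1 → g * (g * a * g) * g = a := fun {g a} e => by
    rw [show g * (g * a * g) * g = g * g * a * (g * g) by group, e]; group
  have cm : ∀ {g a b : G}, g * g = 1 → Commute a b → Commute (g * a * g) (g * b * g) :=
    fun e c => by rw [Commute, SemiconjBy, ← cj e, ← cj e, c.eq]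
  have sq : ∀ {g a : G}, g * g = 1 → a * a = 1 → g * a * g * (g * a * g) = 1 := fun e c => by
    rw [← cj e, c, mul_one, e]
  have sw : ∀ a, w * (v * a * v) * w = v * (w * a * w) * v := fun a => by
    rw [show w * (v * a * v) * w = w * v * a * (v * w) by group, ← vw]
    nth_rewrite 2 [vw]
    group
  have c12 : Commute (v * u * v) (w * u * w) := by simpa only [cc vv] using cm vv c3
  have c23 : Commute (w * u * w) (v * (w * u * w) * v) := by simpa only [sw] using cm ww c1
  have c13 := cm vv c2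
  have e1 := cc (a := u) vv
  have e2 := cc (a := u) ww
  have e3 := cc (a := w * u * w) vv
  have e4 := sw u
  have e5 : w * (v * (w * u * w) * v) * w = v * u * v := by rw [sw, e2]
  have s1 := sq vv uu
  have s2 := sq ww uu
  have s3 := sq vv s2
  generalize e6 : v * (w * u * w) * v = C at *
  generalize e7 : w * u * w = B at *
  generalize e8 : v * u * v = A at *
  have l : ∀ {a b : G}, Commute a b → ∀ x, b * (a * x) = a * (b * x) := fun c x => c.symm.left_comm x
  have m : ∀ {a : G}, a * a = 1 → ∀ x, a * (a * x) = x := fun e x => by rw [← mul_assoc, e, one_mul]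
  have key : ∀ {x y : G}, (x = y) = (x * 1 = y * 1) := by simp
  refine (exists_v4 (a := u * A) (b := u * A * (B * C)) (c := u) (d := u * B)
    ?_ ?_ uu ?_ ?_ ?_ ?_ ?_ ?_ ?_).elim fun f1 ⟨ha, hb, hc, hd⟩ => ?_
  iterate 9
    · refine key.mpr ?_
      simp only [one_mul, mul_assoc, l c1, l c2, l c3, l c12, l c13, l c23, m uu, m s1, m s2, m s3]
  let f2 : K2 →* G := MonoidHom.mk' (fun k => bz v k.x * bz w k.y) fun a b => by
    rw [(bz_cm vw _ _).symm.mul_mul_mul_comm, ← bz_add vv, ← bz_add ww]; rfl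
  have k : ∀ (k : K2) (g : G), g * g = 1 → (∀ a ∈ bs, f1 (φ4 k a) = g * f1 a * g) →
      f1.comp (φ4 k).toMonoidHom = (MulAut.conj g).toMonoidHom.comp f1 := fun k g e h =>
    ext4 fun a ha => (h a ha).trans (by simp [inv_eq_of_mul_eq_one_right e])
  have k1 := k ⟨1, 0⟩ v vv (by
    simp only [bs, List.forall_mem_cons, List.not_mem_nil, show φ4 ⟨1, 0⟩ ea = ea from rfl,
      show φ4 ⟨1, 0⟩ eb = eb from rfl, show φ4 ⟨1, 0⟩ ec = ea * ec from rfl,
      show φ4 ⟨1, 0⟩ ed = eb * ed from rfl, map_mul, ha, hb, hc, hd, cj vv, e1, e3, e6, e8]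
    refine ⟨?_, ?_, ?_, ?_, by simp⟩ <;> rw [key] <;>
      simp only [mul_assoc, l c1, l c2, l c3, l c12, l c13, l c23, m uu, m s1, m s2, m s3])
  have k2 := k ⟨0, 1⟩ w ww (by
    simp only [bs, List.forall_mem_cons, List.not_mem_nil, show φ4 ⟨0, 1⟩ ea = ea * eb from rfl,
      show φ4 ⟨0, 1⟩ eb = eb from rfl, show φ4 ⟨0, 1⟩ ec = ec * ed from rfl,
      show φ4 ⟨0, 1⟩ ed = ed from rfl, map_mul, ha, hb, hc, hd, cj ww, e2, e4, e5, e7]
    refine ⟨?_, ?_, ?_, ?_, by simp⟩ <;> rw [key] <;>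
      simp only [mul_assoc, l c1, l c2, l c3, l c12, l c13, l c23, m uu, m s1, m s2, m s3])
  refine ⟨lift f1 f2 fun k => ?_, ?_, ?_, ?_⟩
  · rcases (by decide : ∀ k : K2, k = 1 ∨ k = ⟨1, 0⟩ ∨ k = ⟨0, 1⟩ ∨ k = ⟨1, 0⟩ * ⟨0, 1⟩) k with
      rfl | rfl | rfl | rfl
    · ext; simp
    · simpa [f2, bz] using k1
    · simpa [f2, bz] using k2
    · ext a
      have e1 : f1 (φ4 _ (φ4 ⟨0, 1⟩ a)) = v * f1 _ * v⁻¹ := DFunLike.congr_fun k1 (φ4 ⟨0, 1⟩ a)
      have e2 : f1 (φ4 _ a) = w * f1 a * w⁻¹ := DFunLike.congr_fun k2 a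
      rw [map_mul, map_mul]
      simp [f2, bz, e1, e2, mul_assoc]
  · exact (lift_inl _ _ _ ec).trans hc
  · exact (lift_inr _ _ _ (⟨1, 0⟩ : K2)).trans (by simp [f2, bz])
  · exact (lift_inr _ _ _ (⟨0, 1⟩ : K2)).trans (by simp [f2, bz])

/-- the group as a table -/
def T6 : Type := Ix 63

instance : DecidableEq T6 := inferInstanceAs (DecidableEq (Ix 63))
instance : Fintype T6 := inferInstanceAs (Fintype (Ix 63))
noncomputable instance (priority := high) decAll {P : T6 → Prop} [i : DecidablePred P] :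
    Decidable (∀ a, P a) := decidable_of_iff _ (@Ix.forall_iff 63 P i)
noncomputable instance (priority := high) decEx {P : T6 → Prop} [i : DecidablePred P] :
    Decidable (∃ a, P a) := decidable_of_iff _ (@Ix.exists_iff 63 P i)

/-- an element from its number: the bits are the exponents of `t₁, z, r, s₁, t₂, s₂` -/
def n6 (i : ℕ) : T6 := Ix.mk' 63 i

/-- the multiplication table -/
noncomputable def tM : ℕ := nat_lit 0x2c824a1071850420c038d30f6d865a5175954524d079d71fae8a6a9279a58628e0badb2fef8e7ad37db5c72cf0fbdf3f28920b1461c40030813cc34e69961b5565d44134917dc75eaa9a2b9669e48238a1becb6eeb9e3bd76df4c33cb1ffcf7e24a2c81851070c004230f38d65a6d85955174d045271f79da6aae89a59278e0862b2fbade7aef8db5d37cf0c72f3ffbd20b2891c414608100334e3cc61b6995d455649141375e7dca2baa99e49668a1823b6ebece3beb9df4d76cb1c33f7effc3cc34e0030811461c428920b7dc75e4134915565d469961bbecb6e8238a19669e4aa9a2bffcf7ec33cb1d76df4eb9e3b38d30f0420c01071852c824a79d71f4524d05175956d865abadb2f8628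e09279a5ae8a6afbdf3fc72cf0d37db5ef8e7a34e3cc0810031c414620b28975e7dc4914135d455661b699b6ebec8a18239e4966a2baa9f7effccb1c33df4d76e3beb930f38d0c004218510724a2c871f79d4d045259551765a6d8b2fbad8e08629a5927a6aae8f3ffbdcf0c72db5d37e7aef80c004230f38d24a2c81851074d045271f79d65a6d85955178e0862b2fbada6aae89a5927cf0c72f3ffbde7aef8db5d3708100334e3cc20b2891c414649141375e7dc61b6995d45568a1823b6ebeca2baa99e4966cb1c33f7effce3beb9df4d760420c038d30f2c824a1071854524d079d71f6d865a5175958628e0badb2fae8a6a9279a5c72cf0fbdf3fef8e7ad37db50030813cc34e28920b1461c44134917dc75e69961b5565d48238a1becb6eaa9a2b9669e4c33cb1ffcf7eeb9e3bd76df41c414620b28934e3cc0810035d455661b69975e7dc4914139e4966a2baa9b6ebec8a1823df4d76e3beb9f7effccb1c3318510724a2c830f38d0c004259551765a6d871f79d4d04529a5927a6aae8b2fbad8e0862db5d37e7aef8f3ffbdcf0c721461c428920b3cc34e0030815565d469961b7dc75e4134919669e4aa9a2bbecb6e8238a1d76df4eb9e3bffcf7ec33cb11071852c824a38d30f0420c05175956d865a79d71f4524d09279a5ae8a6aba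db2f8628e0d37db5ef8e7afbdf3fc72cf069961b59551749141379d71f28920b18510708100338d30feb9e3bdb5d37cb1c33fbdf3faa9a2b9a59278a1823badb2f6d865a5d45564d04527dc75e2c824a1c41460c00423cc34eef8e7adf4d76cf0c72ffcf7eae8a6a9e49668e0862becb6e61b69951759541349171f79d20b28910718500308130f38de3beb9d37db5c33cb1f3ffbda2baa99279a58238a1b2fbad65a6d85565d44524d075e7dc24a2c81461c40420c034e3cce7aef8d76df4c72cf0f7effca6aae89669e48628e0b6ebec79d71f49141359551769961b38d30f08100318510728920bfbdf3fcb1c33db5d37eb9e3bbadb2f8a18239a5927aa9a2b7dc75e4d04525d45566d865a3cc34e0c00421c41462c824affcf7ecf0c72df4d76ef8e7abecb6e8e08629e4966ae8a6a71f79d41349151759561b69930f38d00308110718520b289f3ffbdc33cb1d37db5e3beb9b2fbad8238a19279a5a2baa975e7dc4524d05565d465a6d834e3cc0420c01461c424a2c8f7effcc72cf0d76df4e7aef8b6ebec8628e09669e4a6aae849141379d71f69961b59551708100338d30f28920b185107cb1c33fbdf3feb9e3bdb5d378a1823badb2faa9a2b9a59274d04527dc75e6d865a5d45560c00423cc34e2c824a1c4146cf0c72ffcf7eef8e7a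df4d768e0862becb6eae8a6a9e496641349171f79d61b69951759500308130f38d20b289107185c33cb1f3ffbde3beb9d37db58238a1b2fbada2baa99279a54524d075e7dc65a6d85565d40420c034e3cc24a2c81461c4c72cf0f7effce7aef8d76df48628e0b6ebeca6aae89669e459551769961b79d71f49141318510728920b38d30f081003db5d37eb9e3bfbdf3fcb1c339a5927aa9a2bbadb2f8a18235d45566d865a7dc75e4d04521c41462c824a3cc34e0c0042df4d76ef8e7affcf7ecf0c729e4966ae8a6abecb6e8e086251759561b69971f79d41349110718520b28930f38d003081d37db5e3beb9f3ffbdc33cb19279a5a2baa9b2fbad8238a15565d465a6d875e7dc4524d01461c424a2c834e3cc0420c0d76df4e7aef8f7effcc72cf09669e4a6aae8b6ebec8628e08e28609a7925a68aeab2dbafcf2c70db7d35e78efaf3dfbf0c20401871052482ca30d38f4d24505975156586da71d79f8a38219e6964a29aabb6cbeecb3c31df6d74e39ebbf7cffe0830011c614420928b34c3ce4934115d655461969b75c7de8608e29259a7aeaa68bafb2dc70cf2d35db7efae78fbff3d0400c21051872ca24838f30d4504d25155976da65879f71d8218a39649e6aaba29beeb6cc31cb3d74df6ebbe39ffef7c0010831441c628b2093ce3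4c4114935545d669b6197de75c9e69648a3821b6cbeea29aabdf6d74cb3c31f7cffee39ebb1c614408300134c3ce20928b5d655449341175c7de61969b9a79258e2860b2dbafa68aeadb7d35cf2c70f3dfbfe78efa1871050c204030d38f2482ca5975154d245071d79f6586da9649e68218a3beeb6caaba29d74df6c31cb3ffef7cebbe391441c60010833ce34c28b2095545d64114937de75c69b6199259a78608e2bafb2daeaa68d35db7c70cf2fbff3defae781051870400c238f30d2ca2485155974504d279f71d6da658aeaa68bafb2d8608e29259a7efae78fbff3dc70cf2d35db72ca24838f30d0400c21051876da65879f71d4504d2515597aaba29beeb6c8218a39649e6ebbe39ffef7cc31cb3d74df628b2093ce34c0010831441c669b6197de75c4114935545d6a68aeab2dbaf8e28609a7925e78efaf3dfbfcf2c70db7d352482ca30d38f0c20401871056586da71d79f4d2450597515a29aabb6cbee8a38219e6964e39ebbf7cffecb3c31df6d7420928b34c3ce0830011c614461969b75c7de4934115d6554beeb6caaba299649e68218a3ffef7cebbe39d74df6c31cb33ce34c28b2091441c60010837de75c69b6195545d6411493bafb2daeaa689259a78608e2fbff3defae78d35db7c70cf238f30d2ca2481051870400c279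f71d6da6585155974504d2b6cbeea29aab9e69648a3821f7cffee39ebbdf6d74cb3c3134c3ce20928b1c614408300175c7de61969b5d6554493411b2dbafa68aea9a79258e2860f3dfbfe78efadb7d35cf2c7030d38f2482ca1871050c204071d79f6586da5975154d2450c31cb3d35db7e39ebbf3dfbf8218a39259a7a29aabb2dbaf41149351559761969b71d79f00108310518720928b30d38fc70cf2d74df6e78efaf7cffe8608e29649e6a68aeab6cbee4504d25545d66586da75c7de0400c21441c62482ca34c3cecb3c31db7d35ebbe39fbff3d8a38219a7925aaba29bafb2d49341159751569b61979f71d08300118710528b20938f30dcf2c70df6d74efae78ffef7c8e28609e6964aeaa68beeb6c4d24505d65546da6587de75c0c20401c61442ca2483ce34cd35db7c31cb3f3dfbfe39ebb9259a78218a3b2dbafa29aab51559741149371d79f61969b10518700108330d38f20928bd74df6c70cf2f7cffee78efa9649e68608e2b6cbeea68aea5545d64504d275c7de6586da1441c60400c234c3ce2482cadb7d35cb3c31fbff3debbe399a79258a3821bafb2daaba2959751549341179f71d69b61918710508300138f30d28b209df6d74cf2c70ffef7cefae789e69648e2860beeb6caeaa685d65544d24507de75c6da6581c6144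0c20403ce34c2ca248e39ebbf3dfbfc31cb3d35db7a29aabb2dbaf8218a39259a761969b71d79f41149351559720928b30d38f001083105187e78efaf7cffec70cf2d74df6a68aeab6cbee8608e29649e66586da75c7de4504d25545d62482ca34c3ce0400c21441c6ebbe39fbff3dcb3c31db7d35aaba29bafb2d8a38219a792569b61979f71d49341159751528b20938f30d083001187105efae78ffef7ccf2c70df6d74aeaa68beeb6c8e28609e69646da6587de75c4d24505d65542ca2483ce34c0c20401c6144f3dfbfe39ebbd35db7c31cb3b2dbafa29aab9259a78218a371d79f61969b51559741149330d38f20928b105187001083f7cffee78efad74df6c70cf2b6cbeea68aea9649e68608e275c7de6586da5545d64504d234c3ce2482ca1441c60400c2fbff3debbe39db7d35cb3c31bafb2daaba299a79258a382179f71d69b61959751549341138f30d28b209187105083001ffef7cefae78df6d74cf2c70beeb6caeaa689e69648e28607de75c6da6585d65544d24503ce34c2ca2481c61440c2040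

noncomputable instance : Mul T6 :=
  ⟨fun a b => n6 (Nat.shiftRight tM (Nat.mul 6 (Nat.add (Nat.mul 64 a.val) b.val)))⟩
instance : One T6 := ⟨n6 0⟩
instance : Inv T6 := ⟨fun a => n6 (Nat.shiftRight (nat_lit 0xd37db5ef8e7afbdf3fc72cf09669e4a6aae8b6ebec8628e071d79f6586da5975154d24503ce34c2ca2481c61440c2040) (Nat.mul 6 a.val))⟩

/-- coordinates -/
def e0 (s : T6) : W6 := ⟨⟨nb s.val 0, nb s.val 1, nb s.val 2, nb s.val 3⟩, ⟨nb s.val 4, nb s.val 5⟩⟩

theorem e0_mul : ∀ a b : T6, e0 (a * b) = e0 a * e0 b := by decide +kernel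

theorem e0_inj : Function.Injective e0 := by
  unfold Function.Injective
  decide +kernel

noncomputable instance : Group T6 := Group.ofLeftAxioms
  (fun a b c => e0_inj (by simp only [e0_mul, mul_assoc])) (by decide +kernel) (by decide +kernel)

theorem card6 : Nat.card T6 = 2 ^ 6 := (Nat.card_congr Ix.equivFin).trans (Nat.card_fin _)

/-- the isomorphism -/
noncomputable def e6 : T6 ≃* W6 := MulEquiv.ofBijective (MonoidHom.mk' e0 e0_mul)
  ((Nat.bijective_iff_injective_and_card _).2 ⟨e0_inj, card6.trans W6.card.symm⟩)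

theorem exists_lift {u v w : G} (h : Rel u v w) :
    ∃ f : T6 →* G, f (n6 4) = u ∧ f (n6 16) = v ∧ f (n6 32) = w :=
  let ⟨f, hf⟩ := exists_lift0 h
  ⟨f.comp e6.toMonoidHom, hf⟩

/-- evaluation of the normal form -/
def ev (u v w : G) (s : T6) : G :=
  bz (u * (v * u * v)) (nb s.val 0) * bz (u * (v * u * v) * (w * (u * (v * u * v)) * w)) (nb s.val 1) *
    bz u (nb s.val 2) * bz (u * (w * u * w)) (nb s.val 3) * bz v (nb s.val 4) * bz w (nb s.val 5)

theorem eq_ev (f : T6 →* G) (s : T6) : f s = ev (f (n6 4)) (f (n6 16)) (f (n6 32)) s := by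
  conv_lhs => rw [← (by decide +kernel : ∀ s, ev (n6 4) (n6 16) (n6 32) s = s) s]
  simp only [ev, map_mul, map_bz]

theorem rel_map (f : T6 →* G) : Rel (f (n6 4)) (f (n6 16)) (f (n6 32)) := by
  have : Rel (n6 4) (n6 16) (n6 32) := by decide +kernel
  simp only [Rel, ← map_mul, this.1, this.2.1, this.2.2.1, this.2.2.2.1, this.2.2.2.2.1,
    this.2.2.2.2.2.1, this.2.2.2.2.2.2, map_one, and_self]

theorem cen6 : ∀ s : T6, (∀ u, u * s = s * u) ↔ s = 1 ∨ s = n6 2 := by decide +kernel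

theorem inj_of {f : T6 →* G} (h : f (n6 2) ≠ 1) : Function.Injective f := by
  rw [← MonoidHom.ker_eq_bot_iff]
  by_contra h1
  have := (IsPGroup.of_card (p := 2) card6).isNilpotent
  obtain ⟨⟨w, h2, h3⟩, h4⟩ := ne_bot_iff_exists_ne_one.1 (inf_center_ne_bot_of_isNilpotent _ h1)
  exact h (((cen6 w).1 (mem_center_iff.1 h3)).resolve_left (fun e => h4 (Subtype.ext e)) ▸ h2)

/-- the given bits vanish -/
abbrev In (m : ℕ) (s : T6) : Prop := Nat.land s.val m = 0

/-- subgroups given by vanishing bits -/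
def Sg (m : ℕ) (h : ∀ a : T6, In m a → In m a⁻¹ ∧ ∀ b, In m b → In m (a * b) := by decide +kernel) :
    Subgroup T6 where
  carrier := {s | In m s}
  one_mem' := Nat.zero_and m
  mul_mem' := fun ha hb => (h _ ha).2 _ hb
  inv_mem' := fun ha => (h _ ha).1

/-- the normal `E₈` -/
noncomputable def j3 : V3 →* T6 := MonoidHom.mk' (fun u => n6 (u.1.x.val + 2 * u.1.y.val + 16 * u.2.toAdd.val))
  (by decide +kernel)

/-- the `E₁₆` -/
noncomputable def j4 : V4 →* T6 := MonoidHom.mk' (fun u => n6 (u.a.val + 2 * u.b.val + 4 * u.c.val + 8 * u.d.val))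
  (by decide +kernel)

theorem mem3 : ∀ s, (∃ u, j3 u = s) ↔ In 44 s := by decide +kernel

theorem mem4 : ∀ s, (∃ u, j4 u = s) ↔ In 48 s := by decide +kernel

theorem inj4 : Function.Injective j4 := by
  unfold Function.Injective
  decide +kernel

/-- two automorphisms of order two -/
noncomputable def xi (e : Bool) : T6 →* T6 := MonoidHom.mk' (fun a => n6 (Nat.shiftRight
  (bif e then nat_lit 0xf75ff7ef3e71f34fb6eb2e307557d76d3651714796692610b65be7ae3a61b24ba6aa2a203453c72c3241304386282200 else nat_lit 0xff7f75ef3e71fb6f34eb2e307d77556d3651796714692610be7b65ae3a61ba6b24aa2a203c73452c3241386304282200) (Nat.mul 6 a.val))) (by revert e; decide +kernel)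

theorem chk_T : ∀ v : T6, In 32 v → ¬ In 48 v → v * v = 1 → In 44 v ∧
    ∀ u : T6, u * (v * u * v) * v = v * (u * (v * u * v)) → In 44 (u * (v * u * v)) := by
  decide +kernel

theorem chk_nf : ∀ v : T6, ¬ In 32 v → v * v = 1 → ∀ u : T6, u * u = 1 →
    u * (v * u * v) = v * u * v * u → ∀ w : T6, w * w = 1 → v * w = w * v →
    u * (w * u * w) = w * u * w * u → u * (v * (w * u * w) * v) = v * (w * u * w) * v * u →
    ev u v w (n6 2) = n6 2 → In 32 (ev u v w v) →
    ∃ n : T6, ∃ r ∈ [n6 4, n6 5],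
      Rel r (n6 16) (n * v * n⁻¹) ∧ r * (n6 16 * r * n6 16) = n6 1 ∧
      n6 1 * (n * v * n⁻¹ * n6 1 * (n * v * n⁻¹)) = n6 2 ∧
      n * ev u v w (n * v * n⁻¹) * n⁻¹ = n6 16 ∧
      (n * ev u v w r * n⁻¹ = r ∨ n * ev u v w r * n⁻¹ = r * n6 2) := by decide +kernel

end CL.GH.E8
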